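import Groth.Agent.SemiAbLib.Torus
import Groth.Agent.GenSubLib.TorusField
import Groth.Agent.SplitHom.SameRank
import Groth.Agent.S5286
import Groth.Agent.AVLib.GeomInt
import Groth.Agent.MonoFibre.Connected
import Groth.Agent.CurveRigid.Descent
import Groth.Agent.HomDesc.BaseChange
import Groth.Agent.WittHomLib.Points
import Groth.Agent.BiAddRigidLib.Basic

/-!
# Homomorphisms from tori to abelian schemes are trivial
-/

set_option autoImplicit false
set_option backward.isDefEq.respectTransparency false
set_option linter.style.haveILetI false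
universe u

open CategoryTheory CategoryTheory.Limits MonoidalCategory CartesianMonoidalCategory MonObj AlgebraicGeometry

noncomputable section

namespace Groth.Agent.TorusAbTrivLib

variable {S : Scheme.{u}}

/-- The fibres of a torus are tori. -/
theorem isTorus_fibre {T : Over S} [GrpObj T] (hT : Red.IsTorus T) (s : S) :
    Red.IsTorus (Red.bc (S.fromSpecResidueField s) T) := by
  obtain ⟨S', f, _, hsurj, -, hloc⟩ := hT
  obtain ⟨s', rfl⟩ := hsurj.surj s
  obtain ⟨U, hsU, r, hsplit⟩ := hloc s'
  let K := U.toScheme.residueField ⟨s', hsU⟩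
  let h : U.toScheme ⟶ S := U.ι ≫ f
  letI : Algebra (S.residueField (f s')) K := (h.residueFieldMap ⟨s', hsU⟩).hom.toAlgebra
  refine GenSubLib.isTorus_of_split_field (k := S.residueField (f s')) K (r := r) ?_
  have h1 : Red.IsSplitTorusWith (Fin r → ℤ)
      (Red.bc (U.toScheme.fromSpecResidueField ⟨s', hsU⟩ ≫ h) T) :=
    QuotTorus.isSplit_of_comp (U.toScheme.fromSpecResidueField ⟨s', hsU⟩) h rfl hsplit
  rw [← Scheme.Hom.SpecMap_residueFieldMap_fromSpecResidueField] at h1
  obtain ⟨e⟩ := h1
  exact ⟨HomDesc.bcGrpIso (Spec.map (h.residueFieldMap ⟨s', hsU⟩)) (S.fromSpecResidueField (f s')) rfl T ≪≫ e⟩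

/-- Being a torus is invariant under isomorphisms of groups. -/
theorem isTorus_of_iso {T T' : Over S} [GrpObj T] [GrpObj T'] (e : Grp.mk T' ≅ Grp.mk T) (hT : Red.IsTorus T) :
    Red.IsTorus T' := by
  obtain ⟨S', f, hfl, hsurj, hqc, hloc⟩ := hT
  refine ⟨S', f, hfl, hsurj, hqc, fun s' => ?_⟩
  obtain ⟨U, hsU, r, ⟨e'⟩⟩ := hloc s'
  exact ⟨U, hsU, r, ⟨(Over.pullback (U.ι ≫ f)).mapGrp.mapIso e ≪≫ e'⟩⟩

/-- Field-valued fibres of tori are tori. -/
theorem isTorus_point {T : Over S} [GrpObj T] (hT : Red.IsTorus T) {K : Type u} [Field K]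
    (g : Spec (CommRingCat.of K) ⟶ S) : Red.IsTorus (Red.bc g T) := by
  let s := g (IsLocalRing.closedPoint K)
  let α := S.descResidueField (Scheme.stalkClosedPointTo g)
  have hg : Spec.map α ≫ S.fromSpecResidueField s = g :=
    Scheme.descResidueField_stalkClosedPointTo_fromSpecResidueField K S g
  letI : Algebra (S.residueField s) K := α.hom.toAlgebra
  exact isTorus_of_iso (HomDesc.bcGrpIso (Spec.map α) (S.fromSpecResidueField s) hg T).symm
    (GenSubLib.isTorus_bc (k := S.residueField s) K (isTorus_fibre hT s))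

/-- A homomorphism from a group of multiplicative type with torus fibres to an abelian scheme is trivial. -/
theorem hom_eq_one' {T A : Over S} [GrpObj T] (hFT : SGA3x.IsMultTypeFT T)
    (hfib : ∀ s : S, Red.IsTorus (Red.bc (S.fromSpecResidueField s) T)) [GrpObj A] [Smooth A.hom] [IsProper A.hom]
    [GeometricallyConnected A.hom] (f : T ⟶ A) [IsMonHom f] : f = 1 := by
  obtain ⟨U, -, hU, hf⟩ := S5286.result T A hFT
    (Or.inr ⟨inferInstance, inferInstance, inferInstance⟩) f
  have hall : U = ⊤ := eq_top_iff.2 fun s _ => (hU s).2 (by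
    haveI : Smooth (Red.bc (S.fromSpecResidueField s) A).hom := inferInstanceAs (Smooth (pullback.snd _ _))
    haveI : IsProper (Red.bc (S.fromSpecResidueField s) A).hom := inferInstanceAs (IsProper (pullback.snd _ _))
    haveI : GeometricallyConnected (Red.bc (S.fromSpecResidueField s) A).hom :=
      inferInstanceAs (GeometricallyConnected (pullback.snd _ _))
    haveI := AVLib.geometricallyIntegral_of_smooth (K := S.residueField s) (Red.bc (S.fromSpecResidueField s) A)
    exact SemiAbLib.hom_torus_eq_one (k := S.residueField s) (hfib s)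
      ((Over.pullback (S.fromSpecResidueField s)).map f))
  subst hall
  haveI : IsIso (⊤ : S.Opens).ι := by rw [← Scheme.topIso_hom]; infer_instance
  haveI : Flat (⊤ : S.Opens).ι := inferInstance
  haveI : Surjective (⊤ : S.Opens).ι := ⟨fun s => ⟨⟨s, trivial⟩, rfl⟩⟩
  refine CurveRigid.hom_ext_of_bc (⊤ : S.Opens).ι ?_
  rw [hf, Functor.map_one]

/-- Homomorphisms from tori to abelian schemes are trivial. -/
theorem hom_eq_one {T A : Over S} [GrpObj T] (hT : Red.IsTorus T) [GrpObj A] [Smooth A.hom] [IsProper A.hom]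
    (hA : ∀ s : S, ConnectedSpace ↥(A.hom.fiber s)) (f : T ⟶ A) [IsMonHom f] : f = 1 := by
  haveI : GeometricallyConnected A.hom :=
    MonoFibre.geometricallyConnected_of_connected_fibres A.hom η[A].left (Over.w η[A]) hA
  exact hom_eq_one' (SplitHom.isMultTypeFT_of_isTorus hT) (isTorus_fibre hT) f

open Opposite

/-- The internal Hom from a torus to an abelian scheme vanishes. -/
theorem isZero_homSh {T A : Over S} [GrpObj T] [IsCommMonObj T] (hT : Red.IsTorus T) [GrpObj A] [IsCommMonObj A]
    [Smooth A.hom] [IsProper A.hom] (hA : ∀ s : S, ConnectedSpace ↥(A.hom.fiber s)) :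
    IsZero (HomSh.homSh (QuotSh.J Scheme.fppfPrecoverage S) (CGrpSh.pts Scheme.fppfPrecoverage T)
      (CGrpSh.pts Scheme.fppfPrecoverage A)) := by
  haveI : GeometricallyConnected A.hom :=
    MonoFibre.geometricallyConnected_of_connected_fibres A.hom η[A].left (Over.w η[A]) hA
  have key : ∀ (X : Over S) (φ : (CGrpSh.pts Scheme.fppfPrecoverage T).over X ⟶
      (CGrpSh.pts Scheme.fppfPrecoverage A).over X), φ = 0 := by
    intro X φ
    let Wo : Over X.left ⥤ Over X :=
      { obj := fun V => Over.mk (Over.homMk V.hom rfl : (Over.map X.hom).obj V ⟶ X)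
        map := fun k => Over.homMk ((Over.map X.hom).map k) (by ext; exact Over.w k) }
    let app : ∀ (V : Over X.left), ((Over.map X.hom).obj V ⟶ T) → ((Over.map X.hom).obj V ⟶ A) := fun V a =>
      BiAddRigidLib.un (φ.hom.app (op (Wo.obj V)) (BiAddRigidLib.pt T a))
    let Φ : ∀ (V : Over X.left), (V ⟶ Red.bc X.hom T) → (V ⟶ Red.bc X.hom A) := fun V a =>
      FixedSmooth.adjEquiv X.hom A V (app V ((FixedSmooth.adjEquiv X.hom T V).symm a))
    have hmul : ∀ V a b, Φ V (a * b) = Φ V a * Φ V b := by
      intro V a b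
      show FixedSmooth.adjEquiv X.hom A V _ = _
      rw [map_mul]
      exact (congrArg (FixedSmooth.adjEquiv X.hom A V) (congrArg BiAddRigidLib.un
        (map_add (φ.hom.app (op (Wo.obj V))).hom (BiAddRigidLib.pt T _) (BiAddRigidLib.pt T _)))).trans
          (map_mul (FixedSmooth.adjEquiv X.hom A V) _ _)
    have hnat : ∀ (V V' : Over X.left) (k : V' ⟶ V) a, Φ V' (k ≫ a) = k ≫ Φ V a := by
      intro V V' k a
      have h1 : (FixedSmooth.adjEquiv X.hom T V').symm (k ≫ a) =
          (Over.map X.hom).map k ≫ (FixedSmooth.adjEquiv X.hom T V).symm a :=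
        (Over.mapPullbackAdj X.hom).homEquiv_naturality_left_symm k a
      show FixedSmooth.adjEquiv X.hom A V' (app V' _) = _
      rw [h1]
      refine (congrArg (FixedSmooth.adjEquiv X.hom A V') (congrArg BiAddRigidLib.un
        (NatTrans.naturality_apply φ.hom (Wo.map k).op (BiAddRigidLib.pt T _)))).trans ?_
      exact (Over.mapPullbackAdj X.hom).homEquiv_naturality_left k _
    let u := Φ (Red.bc X.hom T) (𝟙 _)
    have hu : ∀ V (a : V ⟶ Red.bc X.hom T), Φ V a = a ≫ u := fun V a => by
      rw [← hnat, Category.comp_id]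
    haveI : IsMonHom u := WittHomLib.isMonHom_of_mul u fun V a b => by rw [← hu, ← hu, ← hu, hmul]
    haveI : Smooth (Red.bc X.hom A).hom := inferInstanceAs (Smooth (pullback.snd _ _))
    haveI : IsProper (Red.bc X.hom A).hom := inferInstanceAs (IsProper (pullback.snd _ _))
    haveI : GeometricallyConnected (Red.bc X.hom A).hom :=
      inferInstanceAs (GeometricallyConnected (pullback.snd _ _))
    have h0 : u = 1 := hom_eq_one' (HomDesc.isMultTypeFT_bc X.hom (SplitHom.isMultTypeFT_of_isTorus hT))
      (fun x => isTorus_of_iso (HomDesc.bcGrpIso (X.left.fromSpecResidueField x) X.hom rfl T)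
        (isTorus_point hT (K := X.left.residueField x) _)) u
    refine Sheaf.hom_ext (NatTrans.ext (funext fun W => AddCommGrpCat.ext fun b => BiAddRigidLib.eq_of_un ?_))
    let V : Over X.left := Over.mk W.unop.hom.left
    let e : W.unop ⟶ Wo.obj V := Over.homMk (Over.homMk (𝟙 W.unop.left.left) (by
      show 𝟙 _ ≫ W.unop.hom.left ≫ X.hom = _
      rw [Category.id_comp]
      exact Over.w W.unop.hom)) (by ext; exact Category.id_comp _)
    let a : (Over.map X.hom).obj V ⟶ T := Over.homMk (BiAddRigidLib.un b).left (by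
      show (BiAddRigidLib.un b).left ≫ T.hom = W.unop.hom.left ≫ X.hom
      exact (Over.w _).trans (Over.w W.unop.hom).symm)
    have hb : (CGrpSh.pts Scheme.fppfPrecoverage T).obj.map e.left.op (BiAddRigidLib.pt T a) = b :=
      BiAddRigidLib.eq_of_un (by ext; exact Category.id_comp _)
    have ha : app V a = 1 := by
      have := hu V (FixedSmooth.adjEquiv X.hom T V a)
      rw [h0, MonObj.comp_one] at this
      simp only [Φ, MulEquiv.symm_apply_apply] at this
      exact (map_eq_one_iff _ (FixedSmooth.adjEquiv X.hom A V).injective).1 this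
    rw [← hb]
    refine (congrArg BiAddRigidLib.un (NatTrans.naturality_apply φ.hom e.op (BiAddRigidLib.pt T a))).trans ?_
    show e.left ≫ app V a = 1
    rw [ha, MonObj.comp_one]
  refine (IsZero.iff_id_eq_zero _).2 (Sheaf.hom_ext (NatTrans.ext (funext fun X => AddCommGrpCat.ext fun φ => ?_)))
  exact key X.unop φ

end Groth.Agent.TorusAbTrivLib
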